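import Cfsg.Agent.Helper71.BSW.Defs

/-!
# BSW piece (B3) for S3282 (architect helper71): `|C(z)| = q` for the q-elements `z`.
-/

set_option autoImplicit false
set_option maxHeartbeats 400000
set_option linter.style.haveILetI false
set_option linter.unusedVariables false

open Cfsg.Agent.Helper71.BSW

namespace Cfsg.Agent.Helper2.BSW

/-- The conjugation map `G ⧸ C(z) → G`, `xC ↦ x z x⁻¹`. -/
private noncomputable def conjMap {G : Type*} [Group G] (z : G) :
    G ⧸ Subgroup.centralizer ({z} : Set G) → G :=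
  fun x => Quotient.liftOn' x (fun g => g * z * g⁻¹) (by
    intro a b hab
    rw [QuotientGroup.leftRel_apply, Subgroup.mem_centralizer_iff] at hab
    have h := hab z (Set.mem_singleton z)
    -- h : z * (a⁻¹ * b) = a⁻¹ * b * z
    show a * z * a⁻¹ = b * z * b⁻¹
    have : z * a⁻¹ * b = a⁻¹ * b * z := by simpa [mul_assoc] using h
    calc a * z * a⁻¹ = a * (z * a⁻¹ * b) * b⁻¹ := by group
      _ = a * (a⁻¹ * b * z) * b⁻¹ := by rw [this]
      _ = b * z * b⁻¹ := by group)

private lemma conjMap_mk {G : Type*} [Group G] (z g : G) :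
    conjMap z (QuotientGroup.mk g) = g * z * g⁻¹ := rfl

private lemma conjMap_injective {G : Type*} [Group G] (z : G) :
    Function.Injective (conjMap z) := by
  intro x y
  induction x using QuotientGroup.induction_on with
  | H a =>
    induction y using QuotientGroup.induction_on with
    | H b =>
      intro h
      rw [conjMap_mk, conjMap_mk] at h
      rw [QuotientGroup.eq, Subgroup.mem_centralizer_iff]
      intro w hw
      rw [Set.mem_singleton_iff] at hw
      subst hw
      -- a w a⁻¹ = b w b⁻¹  ⇒  w (a⁻¹ b) = (a⁻¹ b) w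
      have h2 : a⁻¹ * (a * w * a⁻¹) * b = a⁻¹ * (b * w * b⁻¹) * b := by rw [h]
      have h3 : w * (a⁻¹ * b) = a⁻¹ * b * w := by
        calc w * (a⁻¹ * b) = a⁻¹ * (a * w * a⁻¹) * b := by group
          _ = a⁻¹ * (b * w * b⁻¹) * b := h2
          _ = a⁻¹ * b * w := by group
      exact h3

theorem b_card_cent_Q {G : Type*} [Group G] [Finite G] {t s : G} {K : Subgroup G} {q d : ℕ}
    (c : Ctx t s K q d) (A1 : FactsA1 t s K)
    (h_arith : Odd q ∧ Odd d ∧ q.Coprime (2 * Nat.card K) ∧ d.Coprime (2 * Nat.card K) ∧ q.Coprime d ∧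
      q ^ 2 = 4 * Nat.card K * d + 1 ∧ 3 ≤ d ∧ 7 ≤ q)
    :
    ∀ z : G, z ≠ 1 → (orderOf z).Coprime (2 * Nat.card K * d) →
    Nat.card (Subgroup.centralizer ({z} : Set G)) = q := by
  obtain ⟨hqo, hdo, hq2k, hd2k, hqd, hsq, hd3, hq7⟩ := h_arith
  intro z hz1 hzc
  set k := Nat.card K with hk
  have hkpos : 0 < k := Nat.card_pos
  set o := orderOf z with ho
  have ho1 : o ≠ 1 := by
    intro h
    exact hz1 (orderOf_eq_one_iff.mp h)
  -- o ∣ q
  have hoG : o ∣ Nat.card G := orderOf_dvd_natCard z
  have hoq : o ∣ q := by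
    rw [c.card] at hoG
    have : o ∣ (2 * k * d) * q := by
      have e : 2 * k * q * d = (2 * k * d) * q := by ring
      rwa [e] at hoG
    exact (Nat.Coprime.dvd_mul_left hzc).mp this
  obtain ⟨p, hp, hpo⟩ := Nat.exists_prime_and_dvd ho1
  have hpq : p ∣ q := hpo.trans hoq
  have hoc2k : o.Coprime (2 * k) := Nat.Coprime.coprime_mul_right_right hzc
  have hocd : o.Coprime d := Nat.Coprime.coprime_mul_left_right hzc
  set C := Subgroup.centralizer ({z} : Set G) with hC
  -- (i) |C| is coprime to 2kd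
  have hCcop : (Nat.card C).Coprime (2 * k * d) := by
    apply Nat.coprime_of_dvd
    intro ℓ hℓ hℓC hℓ2kd
    haveI : Fact ℓ.Prime := ⟨hℓ⟩
    obtain ⟨g, hg⟩ := exists_prime_orderOf_dvd_card' (G := C) ℓ hℓC
    have hgo : orderOf (g : G) = ℓ := by rw [Subgroup.orderOf_coe]; exact hg
    have hgC : (g : G) ∈ C := g.2
    have hcomm : Commute z (g : G) := by
      exact (Subgroup.mem_centralizer_iff.mp hgC) z (Set.mem_singleton z)
    have hg1 : (g : G) ≠ 1 := by
      intro h
      rw [h, orderOf_one] at hgo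
      exact hℓ.one_lt.ne hgo
    rcases (Nat.Prime.dvd_mul hℓ).mp hℓ2kd with h2k | hd
    · -- ℓ ∣ 2k
      have hnc : ¬ (orderOf (g : G)).Coprime (2 * Nat.card K) := by
        rw [hgo]
        intro hcop
        have : ℓ ∣ Nat.gcd ℓ (2 * k) := Nat.dvd_gcd dvd_rfl h2k
        rw [Nat.Coprime] at hcop
        rw [hcop] at this
        exact hℓ.one_lt.ne' (Nat.dvd_one.mp this)
      have hconj := A1.conj_into_K (g : G) hnc
      have hdvd := A1.orderOf_dvd_of_commute (g : G) z hg1 hconj hcomm
      -- o ∣ 2k and coprime ⇒ o = 1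
      exact ho1 (Nat.Coprime.eq_one_of_dvd hoc2k hdvd)
    · -- ℓ ∣ d
      have hcop : (orderOf z).Coprime (orderOf (g : G)) := by
        rw [hgo]
        exact Nat.Coprime.coprime_dvd_right hd hocd
      have hmul := hcomm.orderOf_mul_eq_mul_orderOf_of_coprime hcop
      have hp' : p ∣ orderOf (z * (g : G)) := by
        rw [hmul]; exact Dvd.dvd.mul_right hpo _
      have hℓ' : ℓ ∣ orderOf (z * (g : G)) := by
        rw [hmul, hgo]; exact Dvd.intro_left _ rfl
      exact c.nopr (z * (g : G)) p ℓ hp hℓ hpq hd hp' hℓ'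
  -- (ii) |C| ∣ q
  have hCG : Nat.card C ∣ Nat.card G := Subgroup.card_subgroup_dvd_card C
  have hCq : Nat.card C ∣ q := by
    rw [c.card] at hCG
    have e : 2 * k * q * d = (2 * k * d) * q := by ring
    rw [e] at hCG
    exact (Nat.Coprime.dvd_mul_left hCcop).mp hCG
  -- (iii) the class of z injects into the non-coprime elements
  have hfin : Finite {g : G // ¬ (orderOf g).Coprime q} := inferInstance
  have hnotcop : ∀ x : G, ¬ (orderOf (x * z * x⁻¹)).Coprime q := by
    intro x hcop
    have e : orderOf (x * z * x⁻¹) = o := by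
      have := orderOf_injective (MulAut.conj x).toMonoidHom (MulAut.conj x).injective z
      simpa [MulAut.conj_apply] using this
    rw [e] at hcop
    have : p ∣ Nat.gcd o q := Nat.dvd_gcd hpo hpq
    rw [Nat.Coprime] at hcop
    rw [hcop] at this
    exact hp.one_lt.ne' (Nat.dvd_one.mp this)
  let f : G ⧸ C → {g : G // ¬ (orderOf g).Coprime q} := fun x =>
    ⟨conjMap z x, by
      induction x using QuotientGroup.induction_on with
      | H a => rw [conjMap_mk]; exact hnotcop a⟩
  have hfinj : Function.Injective f := by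
    intro x y hxy
    apply conjMap_injective z
    exact congrArg Subtype.val hxy
  have hle : Nat.card (G ⧸ C) ≤ Nat.card {g : G // ¬ (orderOf g).Coprime q} :=
    Nat.card_le_card_of_injective f hfinj
  have hcount := c.countQ
  have hmul : Nat.card G = Nat.card (G ⧸ C) * Nat.card C :=
    Subgroup.card_eq_card_quotient_mul_card_subgroup C
  -- arithmetic
  obtain ⟨j, hj⟩ := hCq
  set n := Nat.card C with hn
  set i := Nat.card (G ⧸ C) with hi
  have hnpos : 0 < n := Nat.card_pos
  have hi4 : i ≤ 4 * k * d := by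
    have : i + 1 ≤ q ^ 2 := by omega
    omega
  have h1 : 2 * k * q * d = i * n := by rw [← c.card, hmul]
  have hdpos : 0 < d := by omega
  have hkd : 0 < k * d := Nat.mul_pos hkpos hdpos
  -- 2kqd = i n ≤ 4kd n ⇒ q ≤ 2n
  have h2 : 2 * k * q * d ≤ 4 * k * d * n := by
    rw [h1]; exact Nat.mul_le_mul_right n hi4
  have h3 : q ≤ 2 * n := by
    have e1 : 2 * k * q * d = (2 * (k * d)) * q := by ring
    have e2 : 4 * k * d * n = (2 * (k * d)) * (2 * n) := by ring
    rw [e1, e2] at h2
    exact Nat.le_of_mul_le_mul_left h2 (by omega)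
  -- q = n * j, q odd, q ≤ 2 n ⇒ j = 1
  have hjle : j ≤ 2 := by
    rw [hj] at h3
    have : n * j ≤ n * 2 := by linarith
    exact Nat.le_of_mul_le_mul_left this hnpos
  have hjne0 : j ≠ 0 := by
    rintro rfl
    simp at hj
    omega
  have hjne2 : j ≠ 2 := by
    rintro rfl
    rw [hj] at hqo
    exact (Nat.not_even_iff_odd.mpr hqo) (by simp)
  have hj1 : j = 1 := by omega
  rw [hj, hj1, mul_one]

end Cfsg.Agent.Helper2.BSW
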