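import Cfsg.Agent.Helper71.BSW.Defs

/-!
# BSW piece (B4) for S3282 (architect helper71): q-elements exist.
-/

set_option autoImplicit false

open Cfsg.Agent.Helper71.BSW

namespace Cfsg.Agent.Helper2.BSW

theorem b_exists_Q {G : Type*} [Group G] [Finite G] {t s : G} {K : Subgroup G} {q d : ℕ}
    (c : Ctx t s K q d)
    (h_arith : Odd q ∧ Odd d ∧ q.Coprime (2 * Nat.card K) ∧ d.Coprime (2 * Nat.card K) ∧ q.Coprime d ∧
      q ^ 2 = 4 * Nat.card K * d + 1 ∧ 3 ≤ d ∧ 7 ≤ q)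
    :
    ∃ z : G, z ≠ 1 ∧ (orderOf z).Coprime (2 * Nat.card K * d) := by
  obtain ⟨_, _, hq2k, _, hqd, _, _, hq7⟩ := h_arith
  have hq1 : q ≠ 1 := by omega
  obtain ⟨p, hp, hpq⟩ := Nat.exists_prime_and_dvd hq1
  haveI : Fact p.Prime := ⟨hp⟩
  have hpG : p ∣ Nat.card G := by
    rw [c.card]
    exact Dvd.dvd.mul_right (Dvd.dvd.mul_left hpq _) _
  obtain ⟨z, hz⟩ := exists_prime_orderOf_dvd_card' p hpG
  refine ⟨z, ?_, ?_⟩
  · rintro rfl
    rw [orderOf_one] at hz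
    exact hp.one_lt.ne hz
  · rw [hz]
    have h1 : p.Coprime (2 * Nat.card K) := Nat.Coprime.coprime_dvd_left hpq hq2k
    have h2 : p.Coprime d := Nat.Coprime.coprime_dvd_left hpq hqd
    exact Nat.Coprime.mul_right h1 h2

end Cfsg.Agent.Helper2.BSW
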